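import Cfsg.Agent.Lib.Recog.SporBound.Cocycle
import Cfsg.Agent.Lib.Recog.SporBound.SuzMult.Data
import Cfsg.Agent.Lib.ThreeTrans.CosetIndex.Suz1782.Data

/-!
The two certificates for the multiplier of Suz.
-/

set_option autoImplicit false

namespace CfsgLib.Recog.SporBound.SuzMult

open CfsgLib.ThreeTrans.CosetIndex

/-- A field of a tree with 64 fields to a leaf. -/
noncomputable def field (T : Tr) (w i : ℕ) : ℕ :=
  Nat.mod (Nat.shiftRight (T.get (Nat.shiftRight i 6)) (Nat.mul w (Nat.land i 63))) (Nat.pow 2 w)

/-- The word of a coset. -/
noncomputable def word (c : ℕ) : List ℕ :=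
  let N := field wordsT wordWidth c
  (List.range (Nat.land N 255)).map fun i => Nat.land (Nat.shiftRight N (Nat.add 8 (Nat.mul 4 i))) 15

/-- The certificate for exponent two. -/
noncomputable def two : Cocycle.Cert where
  n := 1782
  m := 2
  tab := Suz1782.data.tab
  word := word
  val e j := Nat.land (Nat.shiftRight (field twoVals 88 e) (Nat.mul 8 j)) 255
  step e := field twoSteps 40 e
  free := twoFree
  slot := twoSlot
  rels := Suz1782.rels

/-- The certificate for exponent nine. -/
noncomputable def three : Cocycle.Cert where
  n := 1782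
  m := 9
  tab := Suz1782.data.tab
  word := word
  val e j := Nat.land (Nat.shiftRight (field threeVals 88 e) (Nat.mul 8 j)) 255
  step e := field threeSteps 40 e
  free := threeFree
  slot := threeSlot
  rels := Suz1782.rels

end CfsgLib.Recog.SporBound.SuzMult
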