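import Cfsg.Agent.Lib.Recog.SporBound.SuzMult.ChecksTwo
import Cfsg.Agent.Lib.Recog.SporBound.SuzMult.ChecksThree
import Cfsg.Agent.Lib.Recog.SporBound.SuzGroup
import Cfsg.Agent.Lib.Schur.CentralLift
import Cfsg.Agent.Lib.Schur.Functor
import Cfsg.Agent.Lib.Known.SL2Multiplier
import Cfsg.Agent.S1679
import Cfsg.Agent.S2102
import Cfsg.Agent.S1055
import Cfsg.Prelude.Def_KGroupFacts

/-!
# A stem extension of Suz has kernel of order at most six

Over the subgroup of index 1782 at most two central elements are left.  Beyond them the coset table admits no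
central values of exponent two and only one of exponent nine, of order three.
-/

set_option autoImplicit false
set_option maxHeartbeats 1000000

namespace CfsgLib.Recog.SporBound.SuzMult

open Cfsg CfsgLib.ThreeTrans.CosetIndex CfsgLib.Recog.SporBound
open Cfsg.Agent.S1680 (gens fits)
open CfsgLib.Recog.SporBound.SuzGroup (a K finite_suz card_suz_and_faithful act act_prod)
open scoped commutatorElement

attribute [local instance] finite_suz

local notation "G" => Cfsg.Spor.Suz

/-! ### the subgroup of index 1782 -/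

theorem mem_K_of_fix {g : G} {o : Fin Suz1782.data.n} (ho : (o : ℕ) = 0) (h : act g o = o) : g ∈ K := by
  obtain ⟨e, e0, he⟩ := Data.exists_equiv Suz1782.valid (gen_sq fits) (fun _ hx => gen_big fits hx)
    (gen_generates fits) (map_closure_eq fits) (gen_rels fits) (toPerm Suz1782.valid fits)
    (toPerm_gen Suz1782.valid fits)
  have hb : e ((1 : G) : G ⧸ K) = o := Fin.ext (e0.trans ho.symm)
  have h1 : g • ((1 : G) : G ⧸ K) = ((1 : G) : G ⧸ K) := e.injective (by rw [he, hb]; exact h)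
  rw [MulAction.Quotient.smul_coe, smul_eq_mul, mul_one, QuotientGroup.eq, mul_one, inv_mem_iff] at h1
  exact h1

theorem a_low {x : ℕ} (hx : x < 6) : a x ∈ K := by
  rw [SuzGroup.K_eq]
  exact Subgroup.subset_closure ⟨x, by simp only [List.mem_cons, List.not_mem_nil, or_false]; omega, rfl⟩

theorem K_perfect : commutator ↥K = ⊤ := by
  obtain ⟨F, iF, iF', hF, ⟨e⟩⟩ : ∃ (F : Type) (_ : Field F) (_ : Fintype F), Fintype.card F = 4 ∧
      Nonempty (↥K ≃* ↥(Cfsg.Lie.chevG2.group F)) := by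
    obtain ⟨F, i, i', hF, he⟩ := Cfsg.Agent.S1679.result
    refine ⟨F, i, i', hF, ?_⟩
    have hset : ({Cfsg.Spor.Suz.a, Cfsg.Spor.Suz.b, Cfsg.Spor.Suz.c, Cfsg.Spor.Suz.d, Cfsg.Spor.Suz.e, Cfsg.Spor.Suz.f} :
        Set (FreeGroup Cfsg.Spor.Suz.Gen)) = {r | r ∈ Cfsg.Agent.S1680.words} := by
      ext r; simp [Cfsg.Agent.S1680.words]
    rw [hset] at he
    exact he
  have hex : ∃ u : F, u ≠ 0 ∧ u ≠ 1 := by
    classical
    obtain ⟨u, hu⟩ := Finset.exists_mem_notMem_of_card_lt_card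
      (s := ({0, 1} : Finset F)) (t := Finset.univ) (lt_of_le_of_lt Finset.card_le_two (by rw [Finset.card_univ, hF]; norm_num))
    simp only [Finset.mem_insert, Finset.mem_singleton, not_or] at hu
    exact ⟨u, hu.2.1, hu.2.2⟩
  obtain ⟨hs, hn⟩ := Cfsg.Agent.S1055.result hex
  have htop : commutator ↥(Cfsg.Lie.chevG2.group F) = ⊤ := by
    refine ((inferInstance : (commutator ↥(Cfsg.Lie.chevG2.group F)).Normal).eq_bot_or_eq_top).resolve_left fun h => hn ⟨⟨fun x y => ?_⟩⟩
    have hm := Subgroup.commutator_mem_commutator (Subgroup.mem_top x) (Subgroup.mem_top y)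
    rw [← commutator_def, h, Subgroup.mem_bot, commutatorElement_eq_one_iff_mul_comm] at hm
    exact hm
  have := congrArg (Subgroup.map (e.symm : _ →* ↥K)) htop
  rw [commutator_def, Subgroup.map_commutator, Subgroup.map_top_of_surjective _ e.symm.surjective] at this
  rw [commutator_def, this]

theorem card_le_two_K {Γ : Type} [Group Γ] [Finite Γ] (τ : Γ →* ↥K) (hτ : IsStemExtension τ) :
    Nat.card τ.ker ≤ 2 := by
  obtain ⟨F, iF, iF', hF, ⟨e⟩⟩ : ∃ (F : Type) (_ : Field F) (_ : Fintype F), Fintype.card F = 4 ∧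
      Nonempty (↥K ≃* ↥(Cfsg.Lie.chevG2.group F)) := by
    obtain ⟨F, i, i', hF, he⟩ := Cfsg.Agent.S1679.result
    refine ⟨F, i, i', hF, ?_⟩
    have hset : ({Cfsg.Spor.Suz.a, Cfsg.Spor.Suz.b, Cfsg.Spor.Suz.c, Cfsg.Spor.Suz.d, Cfsg.Spor.Suz.e, Cfsg.Spor.Suz.f} :
        Set (FreeGroup Cfsg.Spor.Suz.Gen)) = {r | r ∈ Cfsg.Agent.S1680.words} := by
      ext r; simp [Cfsg.Agent.S1680.words]
    rw [hset] at he
    exact he
  have hk : (e.toMonoidHom.comp τ).ker = τ.ker := Subgroup.ext fun g => by simp [MonoidHom.mem_ker]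
  obtain ⟨π, hπ⟩ := (Cfsg.Agent.S2102.result hF).2 Γ (e.toMonoidHom.comp τ)
    ⟨e.surjective.comp hτ.1, hk ▸ hτ.2.1, hk ▸ hτ.2.2⟩
  rw [← hk]
  exact (Nat.card_le_card_of_surjective π hπ).trans_eq (by rw [Nat.card_eq_fintype_card]; rfl)

/-! ### lifts -/

/-- The unknowns: relator values, then three free edges. -/
theorem exists_fit (C : Cocycle.Cert) (hn : C.n = 1782) (htab : C.tab = Suz1782.data.tab)
    (hrels : C.rels = Suz1782.rels) (hw0 : C.word 0 = []) (hfree : C.free.length = 3) (r₀ : ℕ)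
    (hslot : forallFrom (fun r => (Nat.blt (C.slot.getD r 11) 8 && Nat.beq (C.slot.idxOf (C.slot.getD r 11)) r) ||
      (Nat.beq (C.slot.getD r 11) 11 &&
        (Nat.beq r r₀ || (C.rels.getD r []).all fun x => Nat.blt x 6))) 0 33 = true)
    (hvar : (C.free.all fun e => Nat.beq (Suz1782.data.trace 0
      ((C.word (Suz1782.data.tab e.1 e.2)).reverse ++ [e.2] ++ C.word e.1).reverse) 0) = true)
    {Γ : Type} [Group Γ] [Finite Γ] (σ : Γ →* G) (hs : Function.Surjective σ) (hc : σ.ker ≤ Subgroup.center Γ)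
    (hexp : ∀ z, σ z = 1 → z ^ C.m = 1) (L : Subgroup Γ) (hL : L.map σ = K) (hinf : L ⊓ σ.ker = ⊥) (t : ℕ → Γ)
    (ht : ∀ x, σ (t x) = a x) (hlow : ∀ x < 6, t x ∈ L)
    (hr₀ : ((C.rels.getD r₀ []).reverse.map t).prod = 1) :
    ∃ v : ℕ → Γ, Cocycle.Fit C σ.ker L t v ∧
      ∀ r < 33, C.slot.getD r 11 < 8 → ((C.rels.getD r []).reverse.map t).prod = v (C.slot.getD r 11) := by
  classical
  have hword : ∀ w : List ℕ, σ ((w.map t).prod) = (w.map a).prod := fun w => by
    rw [map_list_prod, List.map_map]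
    exact congrArg List.prod (List.map_congr_left fun x _ => ht x)
  have hker : ∀ w ∈ C.rels, σ ((w.reverse.map t).prod) = 1 := by
    intro w hw
    rw [hword, CfsgLib.ThreeTrans.CosetIndex.prod_reverse_eq_inv a (gen_sq fits),
      gen_rels fits w (show w ∈ Suz1782.data.rels by rw [hrels] at hw; exact hw), inv_one]
  have hlen : C.rels.length = 33 := by rw [hrels]; rfl
  have hvar' : ∀ e ∈ C.free, ∃ z, σ z = 1 ∧ ∃ l ∈ L,
      t e.2 * ((C.word e.1).map t).prod = ((C.word (C.tab e.1 e.2)).map t).prod * z * l := by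
    intro e he
    have h0 := List.all_eq_true.1 hvar e he
    rw [Nat.beq_eq] at h0
    set u := (C.word (Suz1782.data.tab e.1 e.2)).reverse ++ [e.2] ++ C.word e.1
    set g := (((C.word (C.tab e.1 e.2)).map t).prod)⁻¹ * (t e.2 * ((C.word e.1).map t).prod) with hg
    have hσ : σ g = (u.map a).prod := by
      rw [hg, map_mul, map_mul, map_inv, hword, hword, ht, htab, List.map_append, List.map_append, List.prod_append,
        List.prod_append, List.map_singleton, List.prod_singleton,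
        CfsgLib.ThreeTrans.CosetIndex.prod_reverse_eq_inv a (gen_sq fits), mul_assoc]
    have hmem : σ g ∈ K := by
      refine mem_K_of_fix (o := ⟨0, Suz1782.valid.base.1⟩) rfl (Fin.ext ?_)
      have h1 := act_prod u.reverse ⟨0, Suz1782.valid.base.1⟩
      rw [CfsgLib.ThreeTrans.CosetIndex.prod_reverse_eq_inv a (gen_sq fits), inv_inv, ← hσ] at h1
      exact h1.symm.trans h0
    obtain ⟨l, hl, el⟩ := (hL ▸ hmem : σ g ∈ L.map σ)
    refine ⟨g * l⁻¹, by rw [map_mul, map_inv, el, mul_inv_cancel], l, hl, ?_⟩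
    rw [mul_assoc (((C.word (C.tab e.1 e.2)).map t).prod), inv_mul_cancel_right, hg, mul_inv_cancel_left]
  choose z hz l hl hzl using hvar'
  let v : ℕ → Γ := fun j => if j < 8 then ((C.rels.getD (C.slot.idxOf j) []).reverse.map t).prod
    else if h : j < 11 then z (C.free[j - 8]'(by omega)) (List.getElem_mem _) else 1
  have hv : ∀ j, σ (v j) = 1 := by
    intro j
    simp only [v]
    split_ifs with h1 h2
    · by_cases hr : C.slot.idxOf j < C.rels.length
      · rw [List.getD_eq_getElem _ _ hr]; exact hker _ (List.getElem_mem _)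
      · rw [List.getD_eq_default _ _ (not_lt.1 hr)]; simp
    · exact hz _ _
    · exact map_one σ
  have hslot' : ∀ r < 33, C.slot.getD r 11 < 8 → ((C.rels.getD r []).reverse.map t).prod = v (C.slot.getD r 11) := by
    intro r hr h8
    have h := forallFrom_elim hslot (Nat.zero_le r) (by omega)
    rw [Bool.or_eq_true, Bool.and_eq_true, Bool.and_eq_true, Nat.beq_eq, Nat.beq_eq] at h
    rcases h with ⟨-, h⟩ | ⟨h, -⟩
    · simp only [v, if_pos h8, h]
    · omega
  refine ⟨v, ⟨fun z hz γ => Subgroup.mem_center_iff.1 (hc hz) γ, fun j => MonoidHom.mem_ker.2 (hv j),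
    fun j => hexp _ (hv j), fun z hz hzL => ?_, hlow, hw0, fun r hr => ?_, fun i hi c x he => ?_⟩, hslot'⟩
  · have : z ∈ L ⊓ σ.ker := ⟨hzL, hz⟩
    rwa [hinf, Subgroup.mem_bot] at this
  · have hr' : r < 33 := hlen ▸ hr
    have h := forallFrom_elim hslot (Nat.zero_le r) (by omega)
    rw [Bool.or_eq_true, Bool.and_eq_true, Bool.and_eq_true, Nat.blt_eq] at h
    rcases h with ⟨h8, -⟩ | ⟨h11, h⟩
    · rw [hslot' r hr' h8, Cocycle.ev_single (i := C.slot.getD r 11) (a := 1) (by omega) (fun j _ => ?_), pow_one]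
      rw [Cocycle.Cert.rval, Cocycle.beq_if]
      by_cases q : C.slot.getD r 11 = j
      · rw [if_pos q, if_pos q.symm]
      · rw [if_neg q, if_neg (Ne.symm q)]
    · rw [Nat.beq_eq] at h11
      rw [Cocycle.ev_zero (fun j hj => by rw [Cocycle.Cert.rval, h11, Cocycle.beq_if, if_neg (by omega)])]
      rw [Bool.or_eq_true, Nat.beq_eq, List.all_eq_true] at h
      rcases h with rfl | h
      · exact hr₀
      · have hm : ((C.rels.getD r []).reverse.map t).prod ∈ L ⊓ σ.ker := by
          refine ⟨Subgroup.list_prod_mem _ fun g hg => ?_, MonoidHom.mem_ker.2 (hker _ ?_)⟩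
          · obtain ⟨x, hx, rfl⟩ := List.mem_map.1 hg
            exact hlow x (by simpa using h x (List.mem_reverse.1 hx))
          · rw [List.getD_eq_getElem _ _ hr]; exact List.getElem_mem _
        rwa [hinf, Subgroup.mem_bot] at hm
  · obtain ⟨hi', he'⟩ := List.getElem?_eq_some_iff.1 he
    have key : ∀ e (hm : e ∈ C.free), ∃ l' ∈ L,
        t e.2 * ((C.word e.1).map t).prod = ((C.word (C.tab e.1 e.2)).map t).prod * z e hm * l' :=
      fun e hm => ⟨l e hm, hl e hm, hzl e hm⟩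
    have := key (C.free[i]) (List.getElem_mem _)
    have hvi : v (8 + i) = z (C.free[i]) (List.getElem_mem _) := by
      simp only [v, if_neg (show ¬ 8 + i < 8 by omega), dif_pos (show 8 + i < 11 by omega), Nat.add_sub_cancel_left]
    rw [hvi]
    obtain ⟨rfl, rfl⟩ : c = (C.free[i]).1 ∧ x = (C.free[i]).2 := by rw [he']; exact ⟨rfl, rfl⟩
    exact this

/-- Lifts of the relators give a section. -/
theorem ker_bot_of_rels {Γ : Type} [Group Γ] [Finite Γ] (σ : Γ →* G) (hσ : IsStemExtension σ) (t : ℕ → Γ)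
    (ht : ∀ x, σ (t x) = a x) (hbig : ∀ x, 7 ≤ x → t x = 1)
    (hrel : ∀ r < 33, ((Suz1782.rels.getD r []).reverse.map t).prod = 1) : σ.ker = ⊥ := by
  have key : ∀ x < 7, Suz1782.rels.getD x [] = [x, x] := by decide +kernel
  have hsq : ∀ x, t x * t x = 1 := fun x => by
    by_cases hx : x < 7
    · have hx' : x < 33 := by omega
      have h := hrel x hx'
      rw [key x hx] at h
      simpa using h
    · rw [hbig x (by omega), one_mul]
  have hfwd : ∀ w ∈ Suz1782.rels, (w.map t).prod = 1 := by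
    intro w hw
    obtain ⟨r, hr, rfl⟩ := List.getElem_of_mem hw
    have h := hrel r hr
    rwa [List.getD_eq_getElem _ _ hr, CfsgLib.ThreeTrans.CosetIndex.prod_reverse_eq_inv t hsq, inv_eq_one] at h
  let f : Spor.Suz.Gen → Γ := fun y => t (gens.idxOf y)
  have hlift : ∀ r ∈ Spor.coxRelators Spor.Suz.edges ∪ {r | r ∈ Spor.Suz.extra}, FreeGroup.lift f r = 1 := by
    intro r hr
    rw [hom_eq_prod gens _ t (fun y => FreeGroup.lift_apply_of) hsq]
    refine prod_rotMem t ?_ hfwd
    have h := Bool.and_eq_true_iff.1 fits.rels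
    refine List.all_eq_true.1 h.1 _ ?_
    rw [relWords, List.mem_append]
    rcases hr with ⟨x, hx, y, hy, rfl⟩ | hr
    · exact Or.inl (List.mem_flatMap.2 ⟨x, hx, List.mem_map.2 ⟨y, hy, rfl⟩⟩)
    · exact Or.inr (List.mem_map.2 ⟨r, hr, rfl⟩)
  let ψ : G →* Γ := PresentedGroup.toGroup (f := f) hlift
  have hid : σ.comp ψ = MonoidHom.id G := PresentedGroup.ext fun y => by
    show σ (ψ (PresentedGroup.of y)) = PresentedGroup.of y
    rw [show ψ (PresentedGroup.of y) = f y from PresentedGroup.toGroup.of _]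
    exact (ht _).trans (gen_idxOf fits y)
  have htop : ψ.range = ⊤ := CfsgLib.Schur.eq_top_of_stem σ hσ _ (by
    rw [MonoidHom.map_range, hid]; exact MonoidHom.range_eq_top.2 fun g => ⟨g, rfl⟩)
  refine (Subgroup.eq_bot_iff_forall _).2 fun z hz => ?_
  obtain ⟨g, rfl⟩ : z ∈ ψ.range := htop ▸ Subgroup.mem_top z
  rw [show g = 1 from (DFunLike.congr_fun hid g).symm.trans (MonoidHom.mem_ker.1 hz), map_one]

/-- Passing to a quotient by part of the kernel. -/
theorem stem_quot {Q Γ : Type} [Group Q] [Group Γ] (σ : Γ →* Q) (hσ : IsStemExtension σ) (N : Subgroup Γ) [N.Normal]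
    (hN : N ≤ σ.ker) : IsStemExtension (QuotientGroup.lift N σ hN) := by
  obtain ⟨hs, hc, hd⟩ := hσ
  refine ⟨fun g => ?_, fun q hq => ?_, fun q hq => ?_⟩
  · obtain ⟨γ, rfl⟩ := hs g
    exact ⟨γ, rfl⟩
  · induction q using QuotientGroup.induction_on with
    | H γ =>
      refine Subgroup.mem_center_iff.2 fun p => ?_
      induction p using QuotientGroup.induction_on with
      | H δ => rw [← QuotientGroup.mk_mul, ← QuotientGroup.mk_mul, Subgroup.mem_center_iff.1 (hc hq) δ]
  · induction q using QuotientGroup.induction_on with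
    | H γ =>
      have := Subgroup.mem_map_of_mem (QuotientGroup.mk' N) (hd hq)
      rw [commutator_def, Subgroup.map_commutator,
        Subgroup.map_top_of_surjective _ (QuotientGroup.mk'_surjective N)] at this
      exact this

theorem normal_of_le_center {Γ : Type} [Group Γ] {N : Subgroup Γ} (h : N ≤ Subgroup.center Γ) : N.Normal :=
  ⟨fun z hz γ => by rw [Subgroup.mem_center_iff.1 (h hz) γ, mul_inv_cancel_right]; exact hz⟩

theorem lift_quot {Q Γ : Type} [Group Q] [Group Γ] (σ : Γ →* Q) (N : Subgroup Γ) [N.Normal] (hN : N ≤ σ.ker)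
    (L : Subgroup Γ) {H : Subgroup Q} (hL : L.map σ = H) (hinf : L ⊓ σ.ker ≤ N) :
    (L.map (QuotientGroup.mk' N)).map (QuotientGroup.lift N σ hN) = H ∧
      L.map (QuotientGroup.mk' N) ⊓ (QuotientGroup.lift N σ hN).ker = ⊥ := by
  constructor
  · rw [Subgroup.map_map, ← hL]
    congr 1
  · refine (Subgroup.eq_bot_iff_forall _).2 ?_
    rintro _ ⟨⟨l, hl, rfl⟩, h⟩
    exact (QuotientGroup.eq_one_iff l).2 (hinf ⟨hl, h⟩)

/-- The powers of the kernel. -/
def powers {Q Γ : Type} [Group Q] [Group Γ] (σ : Γ →* Q) (hc : σ.ker ≤ Subgroup.center Γ) (k : ℕ) : Subgroup Γ where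
  carrier := {a | ∃ z, σ z = 1 ∧ z ^ k = a}
  one_mem' := ⟨1, map_one σ, one_pow k⟩
  mul_mem' := by
    rintro _ _ ⟨z, hz, rfl⟩ ⟨w, hw, rfl⟩
    exact ⟨z * w, by rw [map_mul, hz, hw, one_mul],
      (show Commute z w from Subgroup.mem_center_iff.1 (hc hw) z).mul_pow k⟩
  inv_mem' := by
    rintro _ ⟨z, hz, rfl⟩
    exact ⟨z⁻¹, by rw [map_inv, hz, inv_one], inv_pow z k⟩

theorem powers_le {Q Γ : Type} [Group Q] [Group Γ] (σ : Γ →* Q) (hc : σ.ker ≤ Subgroup.center Γ) (k : ℕ) :
    powers σ hc k ≤ σ.ker := by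
  rintro _ ⟨z, hz, rfl⟩
  rw [MonoidHom.mem_ker, map_pow, hz, one_pow]

/-! ### the two parts -/

theorem two_checks :
    forallFrom (fun r => (Nat.blt (two.slot.getD r 11) 8 && Nat.beq (two.slot.idxOf (two.slot.getD r 11)) r) ||
      (Nat.beq (two.slot.getD r 11) 11 &&
        (Nat.beq r 17 || (two.rels.getD r []).all fun x => Nat.blt x 6))) 0 33 = true ∧
    (two.free.all fun e => Nat.beq (Suz1782.data.trace 0
      ((two.word (Suz1782.data.tab e.1 e.2)).reverse ++ [e.2] ++ two.word e.1).reverse) 0) = true ∧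
    Suz1782.rels.getD 17 [] = [1, 6, 1, 6, 1, 6] := by
  decide +kernel

theorem three_checks :
    forallFrom (fun r => (Nat.blt (three.slot.getD r 11) 8 && Nat.beq (three.slot.idxOf (three.slot.getD r 11)) r) ||
      (Nat.beq (three.slot.getD r 11) 11 &&
        (Nat.beq r 6 || (three.rels.getD r []).all fun x => Nat.blt x 6))) 0 33 = true ∧
    (three.free.all fun e => Nat.beq (Suz1782.data.trace 0
      ((three.word (Suz1782.data.tab e.1 e.2)).reverse ++ [e.2] ++ three.word e.1).reverse) 0) = true ∧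
    Suz1782.rels.getD 6 [] = [6, 6] := by
  decide +kernel

theorem edges_ok {C : Cocycle.Cert} (hn : C.n = 1782) (h0 : C.edgesOK 0 297 = true) (h1 : C.edgesOK 297 297 = true)
    (h2 : C.edgesOK 594 297 = true) (h3 : C.edgesOK 891 297 = true) (h4 : C.edgesOK 1188 297 = true)
    (h5 : C.edgesOK 1485 297 = true) : ∀ c, c < C.n → ∀ x < 7, C.edgeOK c x = true := by
  intro c hc x hx
  have key : ∀ lo, C.edgesOK lo 297 = true → lo ≤ c → c < lo + 297 → C.edgeOK c x = true := fun lo h l1 l2 =>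
    forallFrom_elim (forallFrom_elim h l1 l2) (Nat.zero_le x) (by omega)
  rcases (by omega : c < 297 ∨ (297 ≤ c ∧ c < 594) ∨ (594 ≤ c ∧ c < 891) ∨ (891 ≤ c ∧ c < 1188) ∨
      (1188 ≤ c ∧ c < 1485) ∨ 1485 ≤ c) with q | q | q | q | q | q
  · exact key _ h0 (by omega) (by omega)
  · exact key _ h1 q.1 q.2
  · exact key _ h2 q.1 q.2
  · exact key _ h3 q.1 q.2
  · exact key _ h4 q.1 q.2
  · exact key _ h5 q (by omega)

theorem exists_lifts {Γ : Type} [Group Γ] (σ : Γ →* G) (hs : Function.Surjective σ) (L : Subgroup Γ)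
    (hL : L.map σ = K) : ∃ t : ℕ → Γ, (∀ x, σ (t x) = a x) ∧ (∀ x < 6, t x ∈ L) ∧ ∀ x, 7 ≤ x → t x = 1 := by
  have h : ∀ x, ∃ g, σ g = a x ∧ (x < 6 → g ∈ L) ∧ (7 ≤ x → g = 1) := by
    intro x
    by_cases hx : x < 6
    · obtain ⟨g, hg, e⟩ := (hL ▸ a_low hx : a x ∈ L.map σ)
      exact ⟨g, e, fun _ => hg, fun h => absurd hx (by omega)⟩
    by_cases hx' : 7 ≤ x
    · refine ⟨1, ?_, fun h => absurd h hx, fun _ => rfl⟩
      rw [map_one]
      exact (gen_big fits (show Suz1782.data.ng ≤ x from hx')).symm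
    · obtain ⟨g, hg⟩ := hs (a x)
      exact ⟨g, hg, fun h => absurd h hx, fun h => absurd h hx'⟩
  choose t h1 h2 h3 using h
  exact ⟨t, h1, h2, h3⟩

theorem two_part {Γ : Type} [Group Γ] [Finite Γ] (σ : Γ →* G) (hσ : IsStemExtension σ)
    (hexp : ∀ z, σ z = 1 → z ^ 2 = 1) (L : Subgroup Γ) (hL : L.map σ = K) (hinf : L ⊓ σ.ker = ⊥) : σ.ker = ⊥ := by
  obtain ⟨t₀, ht₀, hlow₀, hbig₀⟩ := exists_lifts σ hσ.1 L hL
  set q := ([1, 6, 1, 6, 1, 6].reverse.map t₀).prod with hq
  have hq1 : σ q = 1 := by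
    rw [hq, map_list_prod, List.map_map, show (⇑σ ∘ t₀) = a from funext ht₀,
      CfsgLib.ThreeTrans.CosetIndex.prod_reverse_eq_inv a (gen_sq fits), inv_eq_one]
    refine gen_rels fits _ (show [1, 6, 1, 6, 1, 6] ∈ Suz1782.rels from ?_)
    rw [← two_checks.2.2]
    rw [List.getD_eq_getElem _ _ (by decide +kernel)]
    exact List.getElem_mem _
  let t : ℕ → Γ := fun x => if x = 6 then t₀ 6 * q else t₀ x
  have ht : ∀ x, σ (t x) = a x := fun x => by
    simp only [t]
    split_ifs with h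
    · rw [h, map_mul, hq1, mul_one, ht₀]
    · exact ht₀ x
  have hlow : ∀ x < 6, t x ∈ L := fun x hx => by simp only [t, if_neg (by omega : ¬ x = 6)]; exact hlow₀ x hx
  have hr₀ : ((two.rels.getD 17 []).reverse.map t).prod = 1 := by
    rw [show two.rels.getD 17 [] = [1, 6, 1, 6, 1, 6] from two_checks.2.2]
    have hqc : ∀ γ : Γ, γ * q = q * γ := fun γ => Subgroup.mem_center_iff.1 (hσ.2.1 hq1) γ
    show (t 6 * (t 1 * (t 6 * (t 1 * (t 6 * (t 1 * 1)))))) = 1
    simp only [t, if_true, show ¬ (1 = 6) by omega, if_false]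
    have e : t₀ 6 * q * (t₀ 1 * (t₀ 6 * q * (t₀ 1 * (t₀ 6 * q * (t₀ 1 * 1))))) =
        q * q * q * ([1, 6, 1, 6, 1, 6].reverse.map t₀).prod := by
      show _ = q * q * q * (t₀ 6 * (t₀ 1 * (t₀ 6 * (t₀ 1 * (t₀ 6 * (t₀ 1 * 1))))))
      simp only [mul_assoc, mul_one]
      have hm : ∀ γ δ : Γ, γ * (q * δ) = q * (γ * δ) := fun γ δ => by rw [← mul_assoc, hqc, mul_assoc]
      simp only [hm (t₀ 6), hm (t₀ 1)]
    rw [e, ← hq, ← pow_two, hexp q hq1, one_mul, ← pow_two]; exact hexp q hq1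
  obtain ⟨v, hF, hslot⟩ := exists_fit two rfl rfl rfl two_combs.2.2.1 two_combs.2.2.2 17 two_checks.1 two_checks.2.1
    σ hσ.1 hσ.2.1 hexp L hL hinf t ht hlow hr₀
  have hgood := hF.good (edges_ok rfl two_edges0 two_edges1 two_edges2 two_edges3 two_edges4 two_edges5)
  have hv : ∀ j < 8, v j = 1 := by
    intro j hj
    have hmem : ((twoCombs.getD j []), j, 1) ∈
        twoCombs.zip [(0, 1), (1, 1), (2, 1), (3, 1), (4, 1), (5, 1), (6, 1), (7, 1)] := by
      revert j; decide +kernel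
    have h := List.all_eq_true.1 two_combs.1 _ hmem
    simpa using hF.relation hgood (i := j) (by omega) h
  refine ker_bot_of_rels σ hσ t ht (fun x hx => by simp only [t, if_neg (by omega : ¬ x = 6)]; exact hbig₀ x hx)
    fun r hr => ?_
  by_cases h8 : two.slot.getD r 11 < 8
  · rw [show Suz1782.rels = two.rels from rfl, hslot r hr h8, hv _ h8]
  · rw [show Suz1782.rels = two.rels from rfl, hF.rel r hr, Cocycle.ev_zero fun j hj => ?_]
    rw [Cocycle.Cert.rval, Cocycle.beq_if, if_neg]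
    intro e
    have h := forallFrom_elim two_checks.1 (Nat.zero_le r) (by omega)
    rw [Bool.or_eq_true, Bool.and_eq_true, Bool.and_eq_true, Nat.blt_eq, Nat.beq_eq, Nat.beq_eq] at h
    rcases h with ⟨q', -⟩ | ⟨q', -⟩
    · exact h8 q'
    · omega

theorem three_part {Γ : Type} [Group Γ] [Finite Γ] (σ : Γ →* G) (hσ : IsStemExtension σ)
    (hexp : ∀ z, σ z = 1 → z ^ 9 = 1) (L : Subgroup Γ) (hL : L.map σ = K) (hinf : L ⊓ σ.ker = ⊥) :
    Nat.card σ.ker ≤ 3 := by
  obtain ⟨t₀, ht₀, hlow₀, hbig₀⟩ := exists_lifts σ hσ.1 L hL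
  have hs1 : σ (t₀ 6 * t₀ 6) = 1 := by rw [map_mul, ht₀]; exact gen_sq fits 6
  set q := (t₀ 6 * t₀ 6) ^ 4 with hq
  have hq1 : σ q = 1 := by rw [hq, map_pow, hs1, one_pow]
  let t : ℕ → Γ := fun x => if x = 6 then t₀ 6 * q else t₀ x
  have ht : ∀ x, σ (t x) = a x := fun x => by
    simp only [t]
    split_ifs with h
    · rw [h, map_mul, hq1, mul_one, ht₀]
    · exact ht₀ x
  have hlow : ∀ x < 6, t x ∈ L := fun x hx => by simp only [t, if_neg (by omega : ¬ x = 6)]; exact hlow₀ x hx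
  have hr₀ : ((three.rels.getD 6 []).reverse.map t).prod = 1 := by
    rw [show three.rels.getD 6 [] = [6, 6] from three_checks.2.2]
    show t 6 * (t 6 * 1) = 1
    simp only [t, if_true, mul_one]
    rw [(show Commute q (t₀ 6) from (Subgroup.mem_center_iff.1 (hσ.2.1 hq1) _).symm).mul_mul_mul_comm, hq,
      ← pow_add, ← pow_succ']
    exact hexp _ hs1
  obtain ⟨v, hF, hslot⟩ := exists_fit three rfl rfl rfl three_combs.2.2.1 three_combs.2.2.2 6 three_checks.1
    three_checks.2.1 σ hσ.1 hσ.2.1 hexp L hL hinf t ht hlow hr₀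
  have hgood := hF.good (edges_ok rfl three_edges0 three_edges1 three_edges2 three_edges3 three_edges4 three_edges5)
  have hv0 : v 0 ^ 3 = 1 := by
    have hmem : ((threeCombs.getD 0 []), 0, 3) ∈
        threeCombs.zip [(0, 3), (1, 1), (2, 1), (3, 1), (4, 1), (5, 1), (6, 1), (7, 1)] := by decide +kernel
    exact hF.relation hgood (i := 0) (by omega) (List.all_eq_true.1 three_combs.1 _ hmem)
  have hv : ∀ j < 8, j ≠ 0 → v j = 1 := by
    intro j hj hj0
    have hmem : ((threeCombs.getD j []), j, 1) ∈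
        threeCombs.zip [(0, 3), (1, 1), (2, 1), (3, 1), (4, 1), (5, 1), (6, 1), (7, 1)] := by
      have hall : ∀ j : Fin 8, (j : ℕ) = 0 ∨ ((threeCombs.getD j []), (j : ℕ), 1) ∈
          threeCombs.zip [(0, 3), (1, 1), (2, 1), (3, 1), (4, 1), (5, 1), (6, 1), (7, 1)] := by decide +kernel
      exact (hall ⟨j, hj⟩).resolve_left hj0
    have h := List.all_eq_true.1 three_combs.1 _ hmem
    simpa using hF.relation hgood (i := j) (by omega) h
  have hN : Subgroup.zpowers (v 0) ≤ σ.ker := Subgroup.zpowers_le.2 (hF.mem 0)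
  haveI := normal_of_le_center (hN.trans hσ.2.1)
  have hbot := ker_bot_of_rels (QuotientGroup.lift _ σ hN) (stem_quot σ hσ _ hN)
    (fun x => (t x : Γ ⧸ Subgroup.zpowers (v 0))) ht
    (fun x hx => by simp only [t, if_neg (by omega : ¬ x = 6), hbig₀ x hx, QuotientGroup.mk_one]) fun r hr => ?_
  · have : σ.ker ≤ Subgroup.zpowers (v 0) := fun z hz => by
      rw [← QuotientGroup.eq_one_iff]
      exact Subgroup.mem_bot.1 (hbot ▸ (show (z : Γ ⧸ Subgroup.zpowers (v 0)) ∈ (QuotientGroup.lift _ σ hN).ker from hz))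
    refine (Subgroup.card_le_of_le this).trans ?_
    rw [Nat.card_zpowers]
    exact Nat.le_of_dvd (by norm_num) (orderOf_dvd_of_pow_eq_one hv0)
  · have e : (((Suz1782.rels.getD r []).reverse.map fun x => (t x : Γ ⧸ Subgroup.zpowers (v 0))).prod) =
        (((Suz1782.rels.getD r []).reverse.map t).prod : Γ ⧸ Subgroup.zpowers (v 0)) := by
      rw [show (((Suz1782.rels.getD r []).reverse.map t).prod : Γ ⧸ Subgroup.zpowers (v 0)) =
        QuotientGroup.mk' (Subgroup.zpowers (v 0)) ((Suz1782.rels.getD r []).reverse.map t).prod from rfl,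
        map_list_prod, List.map_map]
      rfl
    rw [e]
    by_cases h8 : three.slot.getD r 11 < 8
    · rw [show Suz1782.rels = three.rels from rfl, hslot r hr h8, QuotientGroup.eq_one_iff]
      by_cases h0 : three.slot.getD r 11 = 0
      · rw [h0]; exact Subgroup.mem_zpowers _
      · rw [hv _ h8 h0]; exact one_mem _
    · rw [show Suz1782.rels = three.rels from rfl, hF.rel r hr, Cocycle.ev_zero fun j hj => ?_, QuotientGroup.mk_one]
      rw [Cocycle.Cert.rval, Cocycle.beq_if, if_neg]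
      intro e'
      have h := forallFrom_elim three_checks.1 (Nat.zero_le r) (by omega)
      rw [Bool.or_eq_true, Bool.and_eq_true, Bool.and_eq_true, Nat.blt_eq, Nat.beq_eq, Nat.beq_eq] at h
      rcases h with ⟨q', -⟩ | ⟨q', -⟩
      · exact h8 q'
      · omega

theorem complement_bound {Γ : Type} [Group Γ] [Finite Γ] (σ : Γ →* G) (hσ : IsStemExtension σ) (L : Subgroup Γ)
    (hL : L.map σ = K) (hinf : L ⊓ σ.ker = ⊥) : Nat.card σ.ker ≤ 3 := by
  have hσ' := hσ
  obtain ⟨hs, hc, hd⟩ := hσ'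
  -- no even part
  have hroot : ∀ z, σ z = 1 → z ∈ powers σ hc 2 := by
    haveI := normal_of_le_center ((powers_le σ hc 2).trans hc)
    obtain ⟨h1, h2⟩ := lift_quot σ _ (powers_le σ hc 2) L hL (by rw [hinf]; exact bot_le)
    have hbot := two_part _ (stem_quot σ hσ _ (powers_le σ hc 2)) (fun q hq => ?_) _ h1 h2
    · intro z hz
      rw [← QuotientGroup.eq_one_iff]
      exact Subgroup.mem_bot.1 (hbot ▸
        (show (z : Γ ⧸ powers σ hc 2) ∈ (QuotientGroup.lift _ σ (powers_le σ hc 2)).ker from hz))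
    · induction q using QuotientGroup.induction_on with
      | H γ => rw [← QuotientGroup.mk_pow, QuotientGroup.eq_one_iff]; exact ⟨γ, hq, rfl⟩
  -- the exponent divides 81
  have hexp : ∀ z, σ z = 1 → z ^ 81 = 1 := by
    intro z hz
    have e1 : z ^ 1782 = 1 := by
      have h := CfsgLib.Known.SL2Mult.pow_index_eq_one σ hσ K (fun w hw hwk hcom => ?_) (MonoidHom.mem_ker.2 hz)
      · rwa [SuzGroup.index_K] at h
      · have hle : commutator (K.comap σ) ≤ L.comap (K.comap σ).subtype := by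
          refine Subgroup.commutator_le.2 fun x _ y _ => ?_
          obtain ⟨l, hl, el⟩ : σ (x : Γ) ∈ L.map σ := by rw [hL]; exact x.2
          obtain ⟨m, hm, em⟩ : σ (y : Γ) ∈ L.map σ := by rw [hL]; exact y.2
          rw [Subgroup.mem_comap, map_commutatorElement]
          show ⁅(x : Γ), (y : Γ)⁆ ∈ L
          have cx : ∀ γ : Γ, γ * (l⁻¹ * x) = l⁻¹ * x * γ := fun γ => Subgroup.mem_center_iff.1 (hc (by
            rw [MonoidHom.mem_ker, map_mul, map_inv, el, inv_mul_cancel])) γ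
          have cy : ∀ γ : Γ, γ * (m⁻¹ * y) = m⁻¹ * y * γ := fun γ => Subgroup.mem_center_iff.1 (hc (by
            rw [MonoidHom.mem_ker, map_mul, map_inv, em, inv_mul_cancel])) γ
          have key : ⁅(x : Γ), (y : Γ)⁆ = ⁅l, m⁆ := by
            set c := l⁻¹ * (x : Γ) with hcdef
            set d := m⁻¹ * (y : Γ) with hddef
            rw [show (x : Γ) = l * c by rw [hcdef, mul_inv_cancel_left],
              show (y : Γ) = m * d by rw [hddef, mul_inv_cancel_left]]
            calc ⁅l * c, m * d⁆ = l * (c * (m * d)) * c⁻¹ * l⁻¹ * d⁻¹ * m⁻¹ := by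
                  rw [commutatorElement_def]; group
              _ = l * ((m * d) * c) * c⁻¹ * l⁻¹ * d⁻¹ * m⁻¹ := by rw [cx]
              _ = l * m * (d * l⁻¹) * d⁻¹ * m⁻¹ := by group
              _ = l * m * (l⁻¹ * d) * d⁻¹ * m⁻¹ := by rw [cy]
              _ = ⁅l, m⁆ := by rw [commutatorElement_def]; group
          rw [key]
          exact mul_mem (mul_mem (mul_mem hl hm) (inv_mem hl)) (inv_mem hm)
        have : w ∈ L ⊓ σ.ker := ⟨hle hcom, hwk⟩
        rwa [hinf, Subgroup.mem_bot] at this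
    have hcyc := CfsgLib.Known.SL2Mult.pow_index_eq_one σ hσ (Subgroup.zpowers (SuzGroup.word11.map a).prod)
      (fun w hw hwk hcom => CfsgLib.Known.SL2Mult.trivial_of_mult σ hσ _
        (CfsgLib.Schur.hasCyclicSchurMultiplier_one_of_isCyclic _) w hw hwk hcom) (MonoidHom.mem_ker.2 hz)
    have hi : (Subgroup.zpowers (SuzGroup.word11.map a).prod).index = 40758681600 := by
      have h := Subgroup.card_mul_index (Subgroup.zpowers (SuzGroup.word11.map a).prod)
      rw [Nat.card_zpowers, SuzGroup.order_eleven, card_suz_and_faithful.1] at h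
      omega
    rw [hi] at hcyc
    have h162 : z ^ 162 = 1 := orderOf_dvd_iff_pow_eq_one.1
      ((Nat.dvd_gcd (orderOf_dvd_of_pow_eq_one e1) (orderOf_dvd_of_pow_eq_one hcyc)).trans (by norm_num))
    let f : ↥σ.ker → ↥σ.ker := fun u => u ^ 2
    have hf : Function.Surjective f := fun u => by
      obtain ⟨w, hw, e⟩ := hroot u u.2
      exact ⟨⟨w, hw⟩, Subtype.ext e⟩
    have := (Finite.injective_iff_surjective.2 hf) (a₁ := ⟨z, hz⟩ ^ 81) (a₂ := 1) (Subtype.ext (by
      simp only [f, one_pow, OneMemClass.coe_one, SubgroupClass.coe_pow, ← pow_mul]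
      exact h162))
    exact congrArg Subtype.val this
  -- exponent three
  haveI := normal_of_le_center ((powers_le σ hc 9).trans hc)
  obtain ⟨h1, h2⟩ := lift_quot σ _ (powers_le σ hc 9) L hL (by rw [hinf]; exact bot_le)
  have h3 := three_part _ (stem_quot σ hσ _ (powers_le σ hc 9)) (fun q hq => ?_) _ h1 h2
  · have hcube : ∀ z, σ z = 1 → ∃ w, σ w = 1 ∧ w ^ 9 = z ^ 3 := by
      intro z hz
      set k := orderOf (z : Γ ⧸ powers σ hc 9) with hk
      have hk81 : k ∣ 3 ^ 4 := orderOf_dvd_of_pow_eq_one (by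
        rw [← QuotientGroup.mk_pow, show (3 : ℕ) ^ 4 = 81 from rfl, hexp z hz, QuotientGroup.mk_one])
      have hk3 : k ≤ 3 := by
        refine le_trans (Nat.le_of_dvd Nat.card_pos ?_) h3
        have hm : (z : Γ ⧸ powers σ hc 9) ∈ (QuotientGroup.lift _ σ (powers_le σ hc 9)).ker := hz
        have := orderOf_dvd_natCard (⟨_, hm⟩ : ↥(QuotientGroup.lift _ σ (powers_le σ hc 9)).ker)
        rwa [← Subgroup.orderOf_coe] at this
      obtain ⟨j, -, hj⟩ := (Nat.dvd_prime_pow Nat.prime_three).1 hk81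
      have hk' : k ∣ 3 := by
        rcases j with - | - | j
        · rw [hj, pow_zero]; exact one_dvd _
        · rw [hj, pow_one]
        · exfalso
          rw [hj] at hk3
          have : 3 ^ 2 ≤ 3 ^ (j + 1 + 1) := Nat.pow_le_pow_right (by norm_num) (by omega)
          omega
      have := (QuotientGroup.eq_one_iff (N := powers σ hc 9) (z ^ 3)).1 (by rw [QuotientGroup.mk_pow]; exact orderOf_dvd_iff_pow_eq_one.1 hk')
      exact this
    have hone : ∀ z, σ z = 1 → z ^ 3 = 1 := by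
      intro z hz
      obtain ⟨w, hw, e⟩ := hcube z hz
      obtain ⟨u, hu, e'⟩ := hcube w hw
      obtain ⟨s, hs', e''⟩ := hcube u hu
      rw [← e, show (9 : ℕ) = 3 * 3 from rfl, pow_mul, ← e', ← pow_mul, show 9 * 3 = 3 * 9 from rfl, pow_mul, ← e'',
        ← pow_mul]
      exact hexp s hs'
    have hbot : powers σ hc 9 = ⊥ := (Subgroup.eq_bot_iff_forall _).2 (by
      rintro _ ⟨z, hz, rfl⟩
      rw [show (9 : ℕ) = 3 * 3 from rfl, pow_mul, hone z hz, one_pow])
    refine le_trans ?_ h3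
    refine Nat.card_le_card_of_injective
      (fun z : ↥σ.ker => (⟨((z : Γ) : Γ ⧸ powers σ hc 9), z.2⟩ : ↥(QuotientGroup.lift _ σ (powers_le σ hc 9)).ker))
      fun x y h => Subtype.ext ?_
    have e := QuotientGroup.eq.1 (congrArg Subtype.val h)
    rw [hbot, Subgroup.mem_bot] at e
    exact inv_mul_eq_one.1 e
  · induction q using QuotientGroup.induction_on with
    | H γ => rw [← QuotientGroup.mk_pow, QuotientGroup.eq_one_iff]; exact ⟨γ, hq, rfl⟩

theorem card_ker_le_six {Γ : Type} [Group Γ] [Finite Γ] (σ : Γ →* G) (hσ : IsStemExtension σ) :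
    Nat.card σ.ker ≤ 6 := by
  obtain ⟨hs, hc, hd⟩ := id hσ
  let P : Subgroup Γ := K.comap σ
  let ξ : ↥P →* ↥K := (σ.comp P.subtype).codRestrict _ fun x => x.2
  have hξ : Function.Surjective ξ := fun u => by
    obtain ⟨g, hg⟩ := hs u
    exact ⟨⟨g, by rw [Subgroup.mem_comap, hg]; exact u.2⟩, Subtype.ext hg⟩
  have hξc : ξ.ker ≤ Subgroup.center ↥P := fun x hx => Subgroup.mem_center_iff.2 fun y =>
    Subtype.ext (Subgroup.mem_center_iff.1 (hc (congrArg Subtype.val (MonoidHom.mem_ker.1 hx))) _)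
  let τ : ↥(commutator ↥P) →* ↥K := ξ.comp (commutator ↥P).subtype
  have hτs : Function.Surjective τ := fun u => by
    have : u ∈ (commutator ↥P).map ξ := by
      rw [commutator_def, Subgroup.map_commutator, Subgroup.map_top_of_surjective _ hξ, ← commutator_def, K_perfect]
      exact Subgroup.mem_top u
    obtain ⟨x, hx, e⟩ := this
    exact ⟨⟨x, hx⟩, e⟩
  have hsup : (commutator ↥P).subtype.range ⊔ ξ.ker = ⊤ := by
    rw [Subgroup.range_subtype, eq_top_iff]
    intro x _
    obtain ⟨d, hd'⟩ := hτs (ξ x)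
    rw [show x = (d : ↥P) * ((d : ↥P)⁻¹ * x) by group]
    exact Subgroup.mul_mem_sup d.2 (by rw [MonoidHom.mem_ker, map_mul, map_inv, show ξ d = ξ x from hd',
      inv_mul_cancel])
  have hτ : IsStemExtension τ := by
    refine ⟨hτs, fun x hx => Subgroup.mem_center_iff.2 fun y =>
      Subtype.ext (Subgroup.mem_center_iff.1 (hξc hx) _), fun x _ => ?_⟩
    obtain ⟨d, hd', e⟩ := (CfsgLib.Schur.commutator_eq_map_of_range_sup _ _ hξc hsup).le x.2
    rwa [← Subtype.ext e]
  let L : Subgroup Γ := (commutator ↥P).map P.subtype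
  have hLm : L.map σ = K := by
    refine le_antisymm ?_ fun u hu => ?_
    · rintro _ ⟨_, ⟨x, -, rfl⟩, rfl⟩; exact x.2
    · obtain ⟨x, hx⟩ := hτs ⟨u, hu⟩
      exact ⟨_, ⟨_, x.2, rfl⟩, congrArg Subtype.val hx⟩
  set D := L ⊓ σ.ker with hD
  have hDle : Nat.card D ≤ 2 := by
    refine le_trans (Nat.card_le_card_of_surjective
      (fun x : ↥τ.ker => (⟨((x.1 : ↥P) : Γ), ⟨_, x.1.2, rfl⟩,
        congrArg Subtype.val (MonoidHom.mem_ker.1 x.2)⟩ : ↥D)) ?_) (card_le_two_K τ hτ)
    rintro ⟨_, ⟨x, hx, rfl⟩, hk⟩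
    exact ⟨⟨⟨x, hx⟩, Subtype.ext (MonoidHom.mem_ker.1 hk)⟩, rfl⟩
  have hDker : D ≤ σ.ker := inf_le_right
  haveI := normal_of_le_center (hDker.trans hc)
  obtain ⟨h1, h2⟩ := lift_quot σ D hDker L hLm le_rfl
  have h3 := complement_bound _ (stem_quot σ hσ D hDker) _ h1 h2
  let f : ↥σ.ker →* ↥(QuotientGroup.lift D σ hDker).ker :=
    ((QuotientGroup.mk' D).comp σ.ker.subtype).codRestrict _ fun z => z.2
  have hf : f.ker = D.subgroupOf σ.ker := Subgroup.ext fun z => by
    rw [MonoidHom.mem_ker, Subgroup.mem_subgroupOf, ← QuotientGroup.eq_one_iff]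
    exact ⟨fun h => congrArg Subtype.val h, fun h => Subtype.ext h⟩
  rw [← Subgroup.card_mul_index f.ker, Subgroup.index_ker, hf,
    Nat.card_congr (Subgroup.subgroupOfEquivOfLe hDker).toEquiv]
  exact (Nat.mul_le_mul hDle ((Nat.card_le_card_of_injective _ Subtype.val_injective).trans h3)).trans_eq rfl

end CfsgLib.Recog.SporBound.SuzMult
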