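import Cfsg.Agent.Lib.Recog.SporBound.SuzMult.Base

/-!
Kernel checks of the certificate.
-/

set_option autoImplicit false
set_option maxRecDepth 20000
set_option Elab.async false

namespace CfsgLib.Recog.SporBound.SuzMult

theorem two_edges0 : two.edgesOK 0 297 = true := by decide +kernel

theorem two_edges1 : two.edgesOK 297 297 = true := by decide +kernel

theorem two_edges2 : two.edgesOK 594 297 = true := by decide +kernel

theorem two_edges3 : two.edgesOK 891 297 = true := by decide +kernel

theorem two_edges4 : two.edgesOK 1188 297 = true := by decide +kernel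

theorem two_edges5 : two.edgesOK 1485 297 = true := by decide +kernel

theorem two_combs : ((twoCombs.zip [(0, 1), (1, 1), (2, 1), (3, 1), (4, 1), (5, 1), (6, 1), (7, 1)]).all fun e => two.combOK e.1 e.2.1 e.2.2) = true ∧
    twoCombs.length = 8 ∧ two.word 0 = [] ∧ two.free.length = 3 := by decide +kernel

end CfsgLib.Recog.SporBound.SuzMult
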