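import Cfsg.Agent.Lib.Recog.SporBound.SuzMult.WitData

/-!
The witness matrices preserve the lattice and its form (letters 4, 5).
-/

set_option autoImplicit false

namespace CfsgLib.Recog.SporBound.SuzMult

open Cfsg CfsgLib.Sporadic CfsgLib.Sporadic.Conway CfsgLib.Sporadic.CoMat CfsgLib.ThreeTrans.Leech

theorem orth4 : Orth (witRows.getD 4 []) := by unfold Orth; decide +kernel

theorem keeps4 : Keeps (witRows.getD 4 []) := by unfold Keeps; decide +kernel

theorem cols4 : Small (witCols.getD 4 []) = true ∧ (List.range 24).all (fun n => (List.range 24).all fun k =>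
    Nat.beq (Nat.mod (Nat.mul 5 (Nat.add (nib ((witRows.getD 4 []).getD n 0) k) 5)) 13)
      (fld ((witCols.getD 4 []).getD n 0) k)) = true := by decide +kernel

theorem orth5 : Orth (witRows.getD 5 []) := by unfold Orth; decide +kernel

theorem keeps5 : Keeps (witRows.getD 5 []) := by unfold Keeps; decide +kernel

theorem cols5 : Small (witCols.getD 5 []) = true ∧ (List.range 24).all (fun n => (List.range 24).all fun k =>
    Nat.beq (Nat.mod (Nat.mul 5 (Nat.add (nib ((witRows.getD 5 []).getD n 0) k) 5)) 13)
      (fld ((witCols.getD 5 []).getD n 0) k)) = true := by decide +kernel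

end CfsgLib.Recog.SporBound.SuzMult
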