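import Cfsg.Agent.Lib.Recog.SporBound.SuzMult.WitData

/-!
The witness matrices preserve the lattice and its form (letters 6, 7).
-/

set_option autoImplicit false

namespace CfsgLib.Recog.SporBound.SuzMult

open Cfsg CfsgLib.Sporadic CfsgLib.Sporadic.Conway CfsgLib.Sporadic.CoMat CfsgLib.ThreeTrans.Leech

theorem orth6 : Orth (witRows.getD 6 []) := by unfold Orth; decide +kernel

theorem keeps6 : Keeps (witRows.getD 6 []) := by unfold Keeps; decide +kernel

theorem cols6 : Small (witCols.getD 6 []) = true ∧ (List.range 24).all (fun n => (List.range 24).all fun k =>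
    Nat.beq (Nat.mod (Nat.mul 5 (Nat.add (nib ((witRows.getD 6 []).getD n 0) k) 5)) 13)
      (fld ((witCols.getD 6 []).getD n 0) k)) = true := by decide +kernel

theorem orth7 : Orth (witRows.getD 7 []) := by unfold Orth; decide +kernel

theorem keeps7 : Keeps (witRows.getD 7 []) := by unfold Keeps; decide +kernel

theorem cols7 : Small (witCols.getD 7 []) = true ∧ (List.range 24).all (fun n => (List.range 24).all fun k =>
    Nat.beq (Nat.mod (Nat.mul 5 (Nat.add (nib ((witRows.getD 7 []).getD n 0) k) 5)) 13)
      (fld ((witCols.getD 7 []).getD n 0) k)) = true := by decide +kernel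

end CfsgLib.Recog.SporBound.SuzMult
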