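import Cfsg.Agent.Lib.Recog.SporBound.SuzMult.WitData
import Cfsg.Agent.Lib.ThreeTrans.CosetIndex.Suz1782.Data

/-!
The words of the relations of Suz on the witness matrices.
-/

set_option autoImplicit false

namespace CfsgLib.Recog.SporBound.SuzMult
open CfsgLib CfsgLib.Sporadic.CoMat CfsgLib.ThreeTrans.CosetIndex
/-- The central values of the relations, as exponents. -/
def witExp : List ℕ := [0, 0, 0, 5, 1, 4, 2, 0, 0, 5, 1, 4, 2, 0, 5, 1, 0, 3, 2, 1, 4, 2, 0, 3, 1, 5, 3, 0, 1, 3, 1, 2, 0]
theorem z6 : same witCols (List.replicate 6 7) [] = true := by decide +kernel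
theorem cent : (List.range 7).all (fun x => same witCols [7, x] [x, 7]) = true := by decide +kernel
theorem rel_ok : (List.range 33).all (fun r => same witCols (Suz1782.rels.getD r []) (List.replicate (witExp.getD r 0) 7)) = true := by decide +kernel
theorem ne_ok : (List.range 6).all (fun j => (List.range 24).any (fun i => (List.range 24).any fun k =>
      !Nat.beq (Sporadic.CoMat.fld (col witCols [0] i) k) (Sporadic.CoMat.fld (col witCols (List.replicate j 7) i) k))) = true ∧
  (List.range 5).all (fun j => (List.range 24).any (fun i => (List.range 24).any fun k =>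
      !Nat.beq (Sporadic.CoMat.fld (col witCols (List.replicate (j+1) 7) i) k) (Sporadic.CoMat.fld (col witCols [] i) k))) = true := by constructor <;> decide +kernel
end CfsgLib.Recog.SporBound.SuzMult
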