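import Cfsg.Agent.Lib.Recog.SporBound.SuzMult.WitA
import Cfsg.Agent.Lib.Recog.SporBound.SuzMult.WitB
import Cfsg.Agent.Lib.Recog.SporBound.SuzMult.WitC
import Cfsg.Agent.Lib.Recog.SporBound.SuzMult.WitD
import Cfsg.Agent.Lib.Recog.SporBound.SuzMult.WitRel
import Cfsg.Agent.Lib.Recog.SporBound.SuzGroup
import Cfsg.Prelude.Def_KGroupFacts

/-!
# A stem extension of Suz by a cyclic group of order six, inside Co₀
-/

set_option autoImplicit false

namespace CfsgLib.Recog.SporBound.SuzMult

open Cfsg CfsgLib.Sporadic CfsgLib.ThreeTrans.CosetIndex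
open Cfsg.Agent.S1680 (gens fits)

/-- The eight elements; the last one is central of order six. -/
noncomputable def wel : ℕ → ↥Co0
  | 0 => CoMat.elt keeps0 orth0
  | 1 => CoMat.elt keeps1 orth1
  | 2 => CoMat.elt keeps2 orth2
  | 3 => CoMat.elt keeps3 orth3
  | 4 => CoMat.elt keeps4 orth4
  | 5 => CoMat.elt keeps5 orth5
  | 6 => CoMat.elt keeps6 orth6
  | 7 => CoMat.elt keeps7 orth7
  | _ => 1

theorem wel_rep : ∀ x < 8, CoMat.Rep (witCols.getD x []) (wel x)
  | 0, _ => CoMat.rep_elt keeps0 orth0 cols0.1 cols0.2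
  | 1, _ => CoMat.rep_elt keeps1 orth1 cols1.1 cols1.2
  | 2, _ => CoMat.rep_elt keeps2 orth2 cols2.1 cols2.2
  | 3, _ => CoMat.rep_elt keeps3 orth3 cols3.1 cols3.2
  | 4, _ => CoMat.rep_elt keeps4 orth4 cols4.1 cols4.2
  | 5, _ => CoMat.rep_elt keeps5 orth5 cols5.1 cols5.2
  | 6, _ => CoMat.rep_elt keeps6 orth6 cols6.1 cols6.2
  | 7, _ => CoMat.rep_elt keeps7 orth7 cols7.1 cols7.2
  | n + 8, h => absurd h (by omega)

/-- The cover. -/
noncomputable def cover : Subgroup ↥Co0 := Subgroup.closure (wel '' {x | x < 8})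

/-- The lifts of the letters, inside the cover. -/
noncomputable def lift' (x : ℕ) : ↥cover :=
  if h : x < 8 then ⟨wel x, Subgroup.subset_closure ⟨x, h, rfl⟩⟩ else 1

/-- The central element. -/
noncomputable abbrev zeta : ↥cover := lift' 7

theorem lift'_val {x : ℕ} (hx : x < 8) : (lift' x : ↥Co0) = wel x := by rw [lift', dif_pos hx]

theorem prod_lift' (w : List ℕ) (hw : ∀ x ∈ w, x < 8) : (((w.map lift').prod : ↥cover) : ↥Co0) = (w.map wel).prod := by
  rw [SubmonoidClass.coe_list_prod, List.map_map]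
  exact congrArg List.prod (List.map_congr_left fun x hx => lift'_val (hw x hx))

theorem lift_eq {u w : List ℕ} (hu : ∀ x ∈ u, x < 8) (hw : ∀ x ∈ w, x < 8) (h : CoMat.same witCols u w = true) :
    (u.map lift').prod = (w.map lift').prod := Subtype.ext (by
  rw [prod_lift' u hu, prod_lift' w hw]
  exact CoMat.eq_of_same (fun x hx => wel_rep x (hu x hx)) (fun x hx => wel_rep x (hw x hx)) h)

theorem lift_ne {u w : List ℕ} (hu : ∀ x ∈ u, x < 8) (hw : ∀ x ∈ w, x < 8)
    (h : (List.range 24).any (fun i => (List.range 24).any fun k =>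
      !Nat.beq (CoMat.fld (CoMat.col witCols u i) k) (CoMat.fld (CoMat.col witCols w i) k)) = true) :
    (u.map lift').prod ≠ (w.map lift').prod := fun e => by
  refine CoMat.ne_of_not_same (fun x hx => wel_rep x (hu x hx)) (fun x hx => wel_rep x (hw x hx)) h ?_
  rw [← prod_lift' u hu, ← prod_lift' w hw, e]

theorem rep_lt (j : ℕ) : ∀ x ∈ List.replicate j 7, x < 8 := fun x hx => by
  rw [List.eq_of_mem_replicate hx]; norm_num

theorem zeta_prod (j : ℕ) : ((List.replicate j 7).map lift').prod = zeta ^ j := by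
  rw [List.map_replicate, List.prod_replicate]

theorem zeta_six : zeta ^ 6 = 1 := by
  rw [← zeta_prod]; exact lift_eq (rep_lt 6) (by simp) z6

theorem order_zeta : orderOf zeta = 6 := by
  refine (orderOf_eq_iff (by norm_num)).2 ⟨zeta_six, fun m hm hm0 h => ?_⟩
  have h' := List.all_eq_true.1 ne_ok.2 (m - 1) (List.mem_range.2 (by omega))
  rw [show m - 1 + 1 = m by omega] at h'
  exact lift_ne (rep_lt m) (w := []) (by simp) h' (by rw [zeta_prod, h]; rfl)

theorem zeta_comm (x : ℕ) : Commute zeta (lift' x) := by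
  rcases lt_trichotomy x 7 with h | rfl | h
  · have e := lift_eq (u := [7, x]) (w := [x, 7]) (by simp; omega) (by simp; omega)
      (List.all_eq_true.1 cent x (List.mem_range.2 h))
    show zeta * lift' x = lift' x * zeta
    simpa using e
  · exact Commute.refl _
  · rw [lift', dif_neg (by omega)]; exact Commute.one_right _

theorem closure_lift' : Subgroup.closure (lift' '' {x | x < 8}) = ⊤ := by
  refine Subgroup.map_injective cover.subtype_injective ?_
  rw [MonoidHom.map_closure, ← MonoidHom.range_eq_map, Subgroup.range_subtype, Set.image_image]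
  exact congrArg Subgroup.closure (Set.image_congr fun x hx => lift'_val hx)

theorem zeta_central : Subgroup.zpowers zeta ≤ Subgroup.center ↥cover := by
  refine Subgroup.zpowers_le.2 (Subgroup.mem_center_iff.2 fun g => ?_)
  have h : (⊤ : Subgroup ↥cover) ≤ Subgroup.centralizer {zeta} := by
    rw [← closure_lift', Subgroup.closure_le]
    rintro _ ⟨x, -, rfl⟩
    exact Subgroup.mem_centralizer_singleton_iff.2 (zeta_comm x).symm
  exact Subgroup.mem_centralizer_singleton_iff.1 (h (Subgroup.mem_top g))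

theorem rel_len : Suz1782.rels.length = 33 ∧ (List.range 33).all (fun r => (Suz1782.rels.getD r []).all fun x => Nat.blt x 8) = true := by
  decide +kernel

theorem rel_value {r : ℕ} (hr : r < 33) :
    ((Suz1782.rels.getD r []).map lift').prod = zeta ^ witExp.getD r 0 := by
  rw [← zeta_prod]
  refine lift_eq (fun x hx => ?_) (rep_lt _) (List.all_eq_true.1 rel_ok r (List.mem_range.2 hr))
  exact Nat.le_of_ble_eq_true (List.all_eq_true.1 (List.all_eq_true.1 rel_len.2 r (List.mem_range.2 hr)) x hx)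

theorem zeta_mem_commutator : zeta ∈ commutator ↥cover := by
  let χ : ↥cover →* Abelianization ↥cover := Abelianization.of
  let u : ℕ → Additive (Abelianization ↥cover) := fun x => Additive.ofMul (χ (lift' x))
  set z : Additive (Abelianization ↥cover) := Additive.ofMul (χ zeta) with hz
  have hu : ∀ (w : List ℕ) (e : ℕ), (w.map lift').prod = zeta ^ e → (w.map u).sum = e • z := by
    intro w e h
    rw [hz, ← ofMul_pow, ← map_pow, ← h, map_list_prod, ofMul_list_prod, List.map_map, List.map_map]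
    rfl
  have h30 := hu _ _ (rel_value (r := 30) (by norm_num))
  have h28 := hu _ _ (rel_value (r := 28) (by norm_num))
  have h13 := hu _ _ (rel_value (r := 13) (by norm_num))
  have h2 := hu _ _ (rel_value (r := 2) (by norm_num))
  have h3 := hu _ _ (rel_value (r := 3) (by norm_num))
  have h5 := hu _ _ (rel_value (r := 5) (by norm_num))
  have h17 := hu _ _ (rel_value (r := 17) (by norm_num))
  have h16 := hu _ _ (rel_value (r := 16) (by norm_num))
  have h6 := hu _ _ (rel_value (r := 6) (by norm_num))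
  have h31 := hu _ _ (rel_value (r := 31) (by norm_num))
  have h0 : 6 • z = 0 := by rw [hz, ← ofMul_pow, ← map_pow, zeta_six, map_one]; rfl
  simp only [Suz1782.rels, witExp, List.getD_cons_succ, List.getD_cons_zero, List.map_cons, List.map_nil, List.sum_cons,
    List.sum_nil] at h30 h28 h13 h2 h3 h5 h17 h16 h6 h31
  have hz0 : z = 0 := by
    linear_combination (norm := module) (-1 : ℤ) • h30 + (5 : ℤ) • h28 + (1 : ℤ) • h13 + (-9 : ℤ) • h2 +
      (-10 : ℤ) • h3 + (3 : ℤ) • h5 + (1 : ℤ) • h17 + (-2 : ℤ) • h16 + (-4 : ℤ) • h6 + (1 : ℤ) • h31 + (-6 : ℤ) • h0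
  rw [← Abelianization.ker_of, MonoidHom.mem_ker]
  exact Additive.ofMul.injective hz0

/-- The witness. -/
theorem exists_witness : ∃ (Δ : Type) (_ : Group Δ) (τ : Δ →* Cfsg.Spor.Suz),
    IsStemExtension τ ∧ Nonempty (τ.ker ≃* Multiplicative (ZMod 6)) := by
  have hnormal : (Subgroup.zpowers zeta).Normal :=
    ⟨fun n hn g => by rw [Subgroup.mem_center_iff.1 (zeta_central hn) g, mul_inv_cancel_right]; exact hn⟩
  let q : ↥cover →* ↥cover ⧸ Subgroup.zpowers zeta := QuotientGroup.mk' _
  let t : ℕ → ↥cover ⧸ Subgroup.zpowers zeta := fun x => if x < 7 then q (lift' x) else 1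
  have htprod : ∀ w : List ℕ, (∀ x ∈ w, x < 7) → (w.map t).prod = q (w.map lift').prod := fun w hw => by
    rw [map_list_prod, List.map_map]
    exact congrArg List.prod (List.map_congr_left fun x hx => if_pos (hw x hx))
  have hfwd : ∀ w ∈ Suz1782.rels, (w.map t).prod = 1 := by
    intro w hw
    obtain ⟨r, hr, rfl⟩ := List.getElem_of_mem hw
    have h7 : ∀ x ∈ Suz1782.rels[r], x < 7 := by
      have : Suz1782.rels.all (fun w => w.all fun x => Nat.blt x 7) = true := by decide +kernel
      exact fun x hx => Nat.le_of_ble_eq_true (List.all_eq_true.1 (List.all_eq_true.1 this _ hw) x hx)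
    have h := rel_value (rel_len.1 ▸ hr)
    rw [List.getD_eq_getElem _ _ hr] at h
    rw [htprod _ h7, h, map_pow, show q zeta = 1 from (QuotientGroup.eq_one_iff zeta).2 (Subgroup.mem_zpowers _),
      one_pow]
  have hsq : ∀ x, t x * t x = 1 := fun x => by
    by_cases hx : x < 7
    · have hm : [x, x] ∈ Suz1782.rels := by revert x; decide +kernel
      simpa using hfwd _ hm
    · simp only [t, if_neg hx, one_mul]
  let f : Spor.Suz.Gen → ↥cover ⧸ Subgroup.zpowers zeta := fun y => t (gens.idxOf y)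
  have hlift : ∀ r ∈ Spor.coxRelators Spor.Suz.edges ∪ {r | r ∈ Spor.Suz.extra}, FreeGroup.lift f r = 1 := by
    intro r hr
    rw [hom_eq_prod gens _ t (fun y => FreeGroup.lift_apply_of) hsq]
    refine prod_rotMem t ?_ hfwd
    have h := Bool.and_eq_true_iff.1 fits.rels
    refine List.all_eq_true.1 h.1 _ ?_
    rw [relWords, List.mem_append]
    rcases hr with ⟨x, hx, y, hy, rfl⟩ | hr
    · exact Or.inl (List.mem_flatMap.2 ⟨x, hx, List.mem_map.2 ⟨y, hy, rfl⟩⟩)
    · exact Or.inr (List.mem_map.2 ⟨r, hr, rfl⟩)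
  let ψ : Cfsg.Spor.Suz →* ↥cover ⧸ Subgroup.zpowers zeta := PresentedGroup.toGroup (f := f) hlift
  have hof : ∀ x < 7, ∃ y : Spor.Suz.Gen, ψ (PresentedGroup.of y) = q (lift' x) := by
    intro x hx
    refine ⟨gens.getD x .a, ?_⟩
    rw [show ψ (PresentedGroup.of (gens.getD x .a)) = f (gens.getD x .a) from PresentedGroup.toGroup.of _]
    have hi : gens.idxOf (gens.getD x .a) = x := by revert x; decide +kernel
    simp only [f, hi, t, if_pos hx]
  have hψs : Function.Surjective ψ := by
    rw [← MonoidHom.range_eq_top, eq_top_iff, ← Subgroup.map_top_of_surjective q (QuotientGroup.mk'_surjective _),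
      ← closure_lift', MonoidHom.map_closure, Subgroup.closure_le]
    rintro _ ⟨_, ⟨x, hx, rfl⟩, rfl⟩
    rcases (show x < 7 ∨ x = 7 by have : x < 8 := hx; omega) with h | rfl
    · obtain ⟨y, hy⟩ := hof x h
      exact ⟨_, hy⟩
    · exact ⟨1, by rw [map_one]; exact ((QuotientGroup.eq_one_iff zeta).2 (Subgroup.mem_zpowers _)).symm⟩
  have hψi : Function.Injective ψ := by
    rw [← MonoidHom.ker_eq_bot_iff]
    have := SuzGroup.isSimple
    refine (IsSimpleGroup.eq_bot_or_eq_top_of_normal ψ.ker inferInstance).resolve_right fun htop => ?_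
    obtain ⟨y, hy⟩ := hof 0 (by norm_num)
    have h1 : q (lift' 0) = 1 := hy ▸ MonoidHom.mem_ker.1 (htop ▸ Subgroup.mem_top _)
    obtain ⟨j, hj⟩ := Subgroup.mem_zpowers_iff.1 ((QuotientGroup.eq_one_iff _).1 h1)
    rw [← zpow_mod_orderOf, order_zeta] at hj
    obtain ⟨n, hn, hn6⟩ : ∃ n : ℕ, (n : ℤ) = j % (6 : ℕ) ∧ n < 6 := ⟨(j % (6 : ℕ)).toNat, by omega, by omega⟩
    rw [← hn, zpow_natCast, ← zeta_prod] at hj
    exact lift_ne (u := [0]) (by simp) (rep_lt n) (List.all_eq_true.1 ne_ok.1 n (List.mem_range.2 hn6))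
      (by rw [hj]; simp)
  let e : Cfsg.Spor.Suz ≃* ↥cover ⧸ Subgroup.zpowers zeta := MulEquiv.ofBijective ψ ⟨hψi, hψs⟩
  let τ : ↥cover →* Cfsg.Spor.Suz := e.symm.toMonoidHom.comp q
  have hker : τ.ker = Subgroup.zpowers zeta := by
    ext g
    rw [MonoidHom.mem_ker]
    show e.symm (q g) = 1 ↔ _
    rw [EmbeddingLike.map_eq_one_iff]
    exact QuotientGroup.eq_one_iff g
  refine ⟨↥cover, inferInstance, τ, ⟨e.symm.surjective.comp (QuotientGroup.mk'_surjective _), hker ▸ zeta_central,
    hker ▸ Subgroup.zpowers_le.2 zeta_mem_commutator⟩, ⟨(MulEquiv.subgroupCongr hker).trans ?_⟩⟩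
  exact (zmodCyclicMulEquiv (Subgroup.isCyclic_zpowers zeta)).symm.trans
    (AddEquiv.toMultiplicative (ZMod.ringEquivCongr (by rw [Nat.card_zpowers, order_zeta])).toAddEquiv)

end CfsgLib.Recog.SporBound.SuzMult
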